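import Mathlib

/-! Approximating a finite module over a domain by a free one. -/

namespace Groth.Agent.CAlgMisc

universe u

variable (R : Type u) [CommRing R] [IsDomain R] (M : Type u) [AddCommGroup M] [Module R M]

/-- There are `β : M → Rⁿ`, `α : Rⁿ → M` and nonzero `c, d` with `d (α (β m) - c m) = 0`. -/
theorem exists_approx [Module.Finite R M] :
    ∃ (n : ℕ) (β : M →ₗ[R] (Fin n → R)) (α : (Fin n → R) →ₗ[R] M) (c d : R),
      c ≠ 0 ∧ d ≠ 0 ∧ ∀ m, d • (α (β m) - c • m) = 0 := by
  classical
  let S := nonZeroDivisors R
  let K := FractionRing R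
  let V := LocalizedModule S M
  let mk : M →ₗ[R] V := LocalizedModule.mkLinearMap S M
  obtain ⟨t, g, hg⟩ := Module.Finite.exists_fin (R := R) (M := M)
  have hspan : Submodule.span K (Set.range fun i => mk (g i)) = ⊤ := by
    rw [eq_top_iff]
    rintro x -
    induction x using LocalizedModule.induction_on with
    | h m s =>
      have hm : mk m ∈ Submodule.span K (Set.range fun i => mk (g i)) := by
        have : m ∈ Submodule.span R (Set.range g) := by rw [hg]; exact Submodule.mem_top
        induction this using Submodule.span_induction with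
        | mem y hy => obtain ⟨i, rfl⟩ := hy; exact Submodule.subset_span ⟨i, rfl⟩
        | zero => simp
        | add a b _ _ ha hb => rw [map_add]; exact Submodule.add_mem _ ha hb
        | smul r a _ ha =>
          rw [map_smul, ← algebraMap_smul K]
          exact Submodule.smul_mem _ _ ha
      have e : LocalizedModule.mk m s = (IsLocalization.mk' K (1 : R) s) • mk m := by
        rw [LocalizedModule.mkLinearMap_apply, ← Localization.mk_eq_mk', LocalizedModule.mk_smul_mk,
          one_smul, mul_one]
      rw [e]
      exact Submodule.smul_mem _ _ hm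
  obtain ⟨κ, a, ha, hspan', hli⟩ := exists_linearIndependent' K (fun i => mk (g i))
  haveI : Finite κ := Finite.of_injective a ha
  obtain ⟨n, ⟨e⟩⟩ := Finite.exists_equiv_fin κ
  let b : Module.Basis (Fin n) K V :=
    (Module.Basis.mk hli (by rw [hspan', hspan])).reindex e
  let m₀ : Fin n → M := fun i => g (a (e.symm i))
  have hb : ∀ i, b i = mk (m₀ i) := fun i => by simp [b, m₀]
  let ι' : (Fin n → R) →ₗ[R] (Fin n → K) := LinearMap.pi fun i => Algebra.linearMap R K ∘ₗ LinearMap.proj i
  have hι : Function.Injective ι' := fun x y h => funext fun i =>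
    IsFractionRing.injective R K (congrFun h i)
  obtain ⟨c, hc⟩ := IsLocalization.exist_integer_multiples_of_finite S
    (fun p : Fin t × Fin n => b.equivFun (mk (g p.1)) p.2)
  let co : M →ₗ[R] (Fin n → K) := (c : R) • (b.equivFun.toLinearMap.restrictScalars R ∘ₗ mk)
  have hco : ∀ m, co m ∈ LinearMap.range ι' := by
    intro m
    have : m ∈ Submodule.span R (Set.range g) := by rw [hg]; exact Submodule.mem_top
    induction this using Submodule.span_induction with
    | mem y hy =>
      obtain ⟨i, rfl⟩ := hy
      choose r hr using fun j => hc (i, j)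
      exact ⟨r, funext fun j => hr j⟩
    | zero => simp
    | add a b _ _ ha hb => rw [map_add]; exact Submodule.add_mem _ ha hb
    | smul r a _ ha => rw [map_smul]; exact Submodule.smul_mem _ _ ha
  let β := LinearMap.codRestrictOfInjective co ι' hι hco
  have hβ : ∀ m, ι' (β m) = co m := fun m => LinearMap.codRestrictOfInjective_comp_apply _ _ _ _ m
  let α : (Fin n → R) →ₗ[R] M := Fintype.linearCombination R m₀
  have hmk : ∀ v : Fin n → R, mk (α v) = b.equivFun.symm (ι' v) := by
    intro v
    rw [Module.Basis.equivFun_symm_apply]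
    simp only [α, Fintype.linearCombination_apply, map_sum, map_smul, hb]
    exact Finset.sum_congr rfl fun i _ => (algebraMap_smul K (v i) _).symm
  have hkill : ∀ m, mk (α (β m) - (c : R) • m) = 0 := by
    intro m
    rw [map_sub, hmk, hβ, map_smul, sub_eq_zero]
    simp only [co, LinearMap.smul_apply, LinearMap.comp_apply, LinearMap.coe_restrictScalars,
      LinearEquiv.coe_coe]
    rw [← algebraMap_smul K, map_smul, LinearEquiv.symm_apply_apply, algebraMap_smul]
  have hs : ∀ i, ∃ s : S, (s : R) • (α (β (g i)) - (c : R) • g i) = 0 := fun i => by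
    have h := hkill (g i)
    obtain ⟨s, hs⟩ := (IsLocalizedModule.eq_zero_iff S mk).mp h
    exact ⟨s, hs⟩
  choose s hs using hs
  refine ⟨n, β, α, c, (∏ i, s i : S), nonZeroDivisors.ne_zero c.2,
    nonZeroDivisors.ne_zero (∏ i, s i : S).2, fun m => ?_⟩
  have hz : (((∏ i, s i : S) : R) • (α ∘ₗ β - (c : R) • LinearMap.id : M →ₗ[R] M)) = 0 := by
    refine LinearMap.ext_on_range hg fun i => ?_
    obtain ⟨d, hd⟩ := Finset.dvd_prod_of_mem (fun i => (s i : R)) (Finset.mem_univ i)
    simp only [LinearMap.smul_apply, LinearMap.sub_apply, LinearMap.comp_apply, LinearMap.id_apply,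
      LinearMap.zero_apply, Submonoid.coe_finset_prod]
    rw [hd, mul_comm, mul_smul, hs, smul_zero]
  exact LinearMap.congr_fun hz m

/-- A torsion free finite module over a domain embeds in a finite free module. -/
theorem exists_injective_free [Module.Finite R M] [Module.IsTorsionFree R M] :
    ∃ (n : ℕ) (f : M →ₗ[R] (Fin n → R)), Function.Injective f := by
  obtain ⟨n, β, α, c, d, hc, hd, h⟩ := exists_approx R M
  refine ⟨n, β, (injective_iff_map_eq_zero β).mpr fun x hx => ?_⟩
  have := h x
  rw [hx, map_zero, zero_sub, smul_neg, neg_eq_zero, smul_smul] at this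
  exact (smul_eq_zero.mp this).resolve_left (mul_ne_zero hd hc)

end Groth.Agent.CAlgMisc
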